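/-
Finite facts on the direct product of a group of order two and the alternating group of degree five,
used for groups in which the weak closure of an involution in its centraliser has this shape.
-/
import Cfsg.Agent.Lib.JankoOne.Automiser

set_option autoImplicit false
set_option maxRecDepth 8000
set_option linter.unusedSectionVars false

namespace CfsgLib.JankoWeak

open CfsgLib.JankoOne
open scoped commutatorElement

theorem inv_classesC : ∀ o ∈ kList, mulC o o = oneC → o ≠ oneC → o = zC ∨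
    ∃ g ∈ kList, mulC g 17601 = mulC o g ∨ mulC g (mulC zC 17601) = mulC o g := by decide +kernel

/-- An involution is central or conjugate to one of two. -/
theorem inv_classes {o : K} (h1 : o * o = 1) (h2 : o ≠ 1) :
    o = z0 ∨ ∃ g : K, g * v0 * g⁻¹ = o ∨ g * (z0 * v0) * g⁻¹ = o := by
  simp only [ne_eq, eq_iff, enc_mul, enc_one] at h1 h2
  rcases inv_classesC _ (enc_mem o) h1 h2 with e | ⟨g, hg, e⟩
  · exact Or.inl (enc_injective (e.trans enc_z0.symm))
  · obtain ⟨g', rfl⟩ := exists_enc hg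
    refine Or.inr ⟨g', ?_⟩
    simp only [mul_inv_eq_iff_eq_mul, eq_iff, enc_mul, enc_z0, enc_v0]
    exact e

/-- The eight elements of the centraliser of the four group. -/
def fourList : List K := [1, z0, v0, v1, v0 * v1, z0 * v0, z0 * v1, z0 * (v0 * v1)]

theorem fourList_nodup : fourList.Nodup := by decide +kernel

theorem v_comm : v0 * v1 = v1 * v0 := gens_props.2.2.2.2.2.2.2.2.2.1

theorem v0_mem : v0 ∈ fourCent := mem_fourCent.mpr ⟨rfl, v_comm⟩

theorem v1_mem : v1 ∈ fourCent := mem_fourCent.mpr ⟨v_comm.symm, rfl⟩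

theorem z0_mem : z0 ∈ fourCent := mem_fourCent.mpr ⟨z0_central _, z0_central _⟩

theorem four_casesC : ∀ s ∈ kList, mulC s 17601 = mulC 17601 s →
    mulC s (mulC (mulC 17937 17601) (powC 17937 2)) = mulC (mulC (mulC 17937 17601) (powC 17937 2)) s →
    s ∈ (fourList.map enc) := by decide +kernel

theorem mem_fourList {s : K} : s ∈ fourCent ↔ s ∈ fourList := by
  constructor
  · intro h
    obtain ⟨h1, h2⟩ := mem_fourCent.mp h
    simp only [v1, eq_iff, enc_mul, enc_pow, enc_v0, enc_c0] at h1 h2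
    obtain ⟨a, ha, e⟩ := List.mem_map.mp (four_casesC _ (enc_mem s) h1 h2)
    rwa [← enc_injective e]
  · intro h
    simp only [fourList, List.mem_cons, List.not_mem_nil, or_false] at h
    rcases h with rfl | rfl | rfl | rfl | rfl | rfl | rfl | rfl
    exacts [one_mem _, z0_mem, v0_mem, v1_mem, mul_mem v0_mem v1_mem, mul_mem z0_mem v0_mem,
      mul_mem z0_mem v1_mem, mul_mem z0_mem (mul_mem v0_mem v1_mem)]

theorem z0_comm (k : K) : Commute z0 k := z0_central k

theorem c0_v0 : c0 * v0 * c0⁻¹ = v1 := by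
  rw [v1, inv_eq_of_mul_eq_one_right (show c0 * c0 ^ 2 = 1 by rw [← pow_succ']; exact gens_props.1)]

theorem c0_v1 : c0 * v1 * c0⁻¹ = v0 * v1 := by
  rw [inv_eq_of_mul_eq_one_right (show c0 * c0 ^ 2 = 1 by rw [← pow_succ']; exact gens_props.1)]
  exact gens_props.2.2.2.2.2.2.2.2.2.2.1

/-- Only the central involution and one are fixed by the element of order three. -/
theorem c0_fix {s : K} (hs : s ∈ fourCent) (h : c0 * s = s * c0) : s = 1 ∨ s = z0 := by
  have key : ∀ a ∈ fourList, c0 * a = a * c0 → a = 1 ∨ a = z0 := by decide +kernel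
  exact key s (mem_fourList.mp hs) h

theorem pow_mem_four {s : K} (hs : s ∈ fourCent) : s⁻¹ = s := inv_eq_of_mul_eq_one_right (fourCent_sq hs)

/-- The elements of the derived subgroup in the centraliser of the four group. -/
theorem derived_four : (v0 ∈ commutator K) ∧ (v1 ∈ commutator K) ∧ (v0 * v1 ∈ commutator K) ∧
    ∀ k ∈ commutator K, k.1 = 1 := by
  have e1 : ⁅c0, v1⁆ = v0 := by
    rw [commutatorElement_def, c0_v1, inv_eq_of_mul_eq_one_right gens_props.2.2.2.2.2.2.2.1,
      mul_assoc, gens_props.2.2.2.2.2.2.2.1, mul_one]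
  have e0 : ⁅c0, v0⁆ = v1 * v0 := by
    rw [commutatorElement_def, c0_v0, inv_eq_of_mul_eq_one_right gens_props.2.2.2.2.1]
  have m0 : v0 ∈ commutator K := e1 ▸ Subgroup.commutator_mem_commutator (Subgroup.mem_top _) (Subgroup.mem_top _)
  have m10 : v1 * v0 ∈ commutator K :=
    e0 ▸ Subgroup.commutator_mem_commutator (Subgroup.mem_top _) (Subgroup.mem_top _)
  have m1 : v1 ∈ commutator K := by
    have := mul_mem m10 m0
    rwa [mul_assoc, gens_props.2.2.2.2.1, mul_one] at this
  refine ⟨m0, m1, mul_mem m0 m1, fun k hk => ?_⟩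
  exact Abelianization.commutator_subset_ker (MonoidHom.fst (Multiplicative (ZMod 2)) _) hk

theorem four_fst {k : K} (hk : k ∈ fourCent) (h : k.1 = 1) : k = 1 ∨ k = v0 ∨ k = v1 ∨ k = v0 * v1 := by
  have key : ∀ a ∈ fourList, a.1 = 1 → a = 1 ∨ a = v0 ∨ a = v1 ∨ a = v0 * v1 := by decide +kernel
  exact key k (mem_fourList.mp hk) h

theorem odd_wordC : ∀ o ∈ kList, powC o 15 = oneC → o ≠ oneC →
    (let p := mulC (mulC 17601 o) 17601;
      powC (mulC (mulC (mulC (mulC (powC o 2) p) o) (powC p 2)) (powC o 2)) 15 ≠ oneC) ∨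
    (let w := mulC (mulC 17937 17601) (powC 17937 2); let p := mulC (mulC w o) w;
      powC (mulC o (powC p 2)) 15 ≠ oneC ∨ powC (mulC (mulC (mulC o p) o) (powC p 2)) 15 ≠ oneC) := by
  decide +kernel

/-- No odd subgroup but the trivial one is normalised by the four group. -/
theorem odd_trivial (J : Subgroup K) (h15 : ∀ k ∈ J, k ^ 15 = 1) (h0 : ∀ k ∈ J, v0 * k * v0 ∈ J)
    (h1 : ∀ k ∈ J, v1 * k * v1 ∈ J) : ∀ k ∈ J, k = 1 := by
  intro o ho
  by_contra hne
  have a := h15 o ho
  have b0 := h15 _ (mul_mem (mul_mem (mul_mem (mul_mem (pow_mem ho 2) (h0 o ho)) ho) (pow_mem (h0 o ho) 2))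
    (pow_mem ho 2))
  have b1 := h15 _ (mul_mem ho (pow_mem (h1 o ho) 2))
  have b2 := h15 _ (mul_mem (mul_mem (mul_mem ho (h1 o ho)) ho) (pow_mem (h1 o ho) 2))
  simp only [v1, eq_iff, enc_mul, enc_pow, enc_one, enc_v0, enc_c0] at a b0 b1 b2 hne
  rcases odd_wordC _ (enc_mem o) a hne with e | e | e
  exacts [e b0, e b1, e b2]

theorem q0_uniqueC : ∀ q ∈ kList, powC q 5 = oneC → powC (mulC q 17601) 3 = oneC →
    powC (mulC q (mulC (mulC 17937 17601) (powC 17937 2))) 2 = oneC →
    powC (mulC q (powC 17937 2)) 3 = oneC → q = 2257 := by decide +kernel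

/-- The relations satisfied by `q0` determine it. -/
theorem q0_unique {q : K} (a : q ^ 5 = 1) (b : (q * v0) ^ 3 = 1) (c : (q * v1) ^ 2 = 1)
    (d : (q * c0 ^ 2) ^ 3 = 1) : q = q0 := by
  simp only [v1, eq_iff, enc_mul, enc_pow, enc_one, enc_v0, enc_c0, enc_q0] at a b c d ⊢
  exact q0_uniqueC _ (enc_mem q) a b c d

theorem q0_rel : (q0 * v0) ^ 3 = 1 ∧ (q0 * v1) ^ 2 = 1 ∧ (q0 * c0 ^ 2) ^ 3 = 1 := by
  simp only [v1, eq_iff, enc_mul, enc_pow, enc_one, enc_v0, enc_c0, enc_q0]
  decide +kernel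

theorem c0_likeC : ∀ c ∈ kList, powC c 3 = oneC →
    mulC c 17601 = mulC (mulC (mulC 17937 17601) (powC 17937 2)) c →
    mulC c (mulC (mulC 17937 17601) (powC 17937 2)) =
      mulC (mulC 17601 (mulC (mulC 17937 17601) (powC 17937 2))) c →
    ∃ v ∈ fourList.map enc, mulC v c = mulC 17937 v := by decide +kernel

/-- An element of order three acting on the four group as `c0` does is conjugate to it by the four group. -/
theorem c0_like {c : K} (a : c ^ 3 = 1) (b : c * v0 = v1 * c) (d : c * v1 = v0 * v1 * c) :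
    ∃ v ∈ fourCent, v * c * v⁻¹ = c0 := by
  simp only [v1, eq_iff, enc_mul, enc_pow, enc_one, enc_v0, enc_c0] at a b d
  obtain ⟨n, hn, e⟩ := c0_likeC _ (enc_mem c) a b d
  obtain ⟨v, hv, rfl⟩ := List.mem_map.mp hn
  refine ⟨v, mem_fourList.mpr hv, ?_⟩
  simp only [mul_inv_eq_iff_eq_mul, eq_iff, enc_mul, enc_c0]
  exact e

/-- The four group, `c0` and `q0` generate. -/
theorem eq_top {H : Subgroup K} (hf : fourCent ≤ H) (hc : c0 ∈ H) (hq : q0 ∈ H) : H = ⊤ := by
  haveI : Fact (Nat.Prime 3) := ⟨by norm_num⟩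
  haveI : Fact (Nat.Prime 5) := ⟨by norm_num⟩
  have h8 : 8 ∣ Nat.card H := card_fourCent ▸ Subgroup.card_dvd_of_le hf
  have h3 : 3 ∣ Nat.card H := by
    have := H.orderOf_dvd_natCard hc
    rwa [orderOf_eq_prime gens_props.1 gens_props.2.1] at this
  have h5 : 5 ∣ Nat.card H := by
    have := H.orderOf_dvd_natCard hq
    rwa [orderOf_eq_prime gens_props.2.2.1 gens_props.2.2.2.1] at this
  refine Subgroup.eq_top_of_le_card _ ?_
  rw [Nat.card_eq_fintype_card (α := K), card_K]
  exact Nat.le_of_dvd Nat.card_pos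
    (Nat.Coprime.mul_dvd_of_dvd_of_dvd (by norm_num) (Nat.Coprime.mul_dvd_of_dvd_of_dvd (by norm_num) h8 h3) h5)

end CfsgLib.JankoWeak
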